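import Mathlib
import Groth.Prelude.Def_Pi1
import Groth.Agent.DVRCrit.Basic

/-!
# Rational sections of integral morphisms over normal schemes extend
-/

set_option autoImplicit false
set_option linter.style.haveILetI false
universe u

open CategoryTheory CategoryTheory.Limits AlgebraicGeometry TopologicalSpace

namespace Groth.Agent.NormalSection

variable {X X' : Scheme.{u}} [IsIntegral X]

lemma genericPoint_mem {V : X.Opens} {p : X} (hp : p ∈ V) : genericPoint X ∈ V :=
  (genericPoint_specializes p).mem_open V.2 hp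

/-- A rational function regular at every point of an affine open is regular on it. -/
lemma exists_germ_eq {V : X.Opens} (hV : IsAffineOpen V) (hξ : genericPoint X ∈ V)
    (z : X.functionField)
    (h : ∀ p ∈ V, z ∈ (algebraMap (X.presheaf.stalk p) X.functionField).range) :
    ∃ a : Γ(X, V), X.presheaf.germ V (genericPoint X) hξ a = z := by
  let I : Ideal Γ(X, V) :=
    { carrier := {d | ∃ c : Γ(X, V), X.presheaf.germ V (genericPoint X) hξ c =
        z * X.presheaf.germ V (genericPoint X) hξ d}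
      add_mem' := by
        rintro a b ⟨c, hc⟩ ⟨c', hc'⟩
        refine ⟨c + c', ?_⟩
        rw [map_add, map_add, mul_add, hc, hc']
      zero_mem' := ⟨0, by simp⟩
      smul_mem' := by
        rintro r a ⟨c, hc⟩
        refine ⟨r * c, ?_⟩
        rw [smul_eq_mul, map_mul, map_mul, hc, mul_left_comm] }
  by_cases hI : I = ⊤
  · obtain ⟨c, hc⟩ := (Ideal.eq_top_iff_one I).mp hI
    exact ⟨c, by simpa using hc⟩
  · exfalso
    obtain ⟨m, hm, hIm⟩ := Ideal.exists_le_maximal I hI
    let q : Spec Γ(X, V) := (⟨m, hm.isPrime⟩ : PrimeSpectrum Γ(X, V))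
    have hp : hV.fromSpec q ∈ V := by
      rw [← SetLike.mem_coe, ← hV.range_fromSpec]; exact ⟨q, rfl⟩
    have hq : hV.primeIdealOf ⟨hV.fromSpec q, hp⟩ = q :=
      hV.fromSpec.isOpenEmbedding.injective (hV.fromSpec_primeIdealOf ⟨_, hp⟩)
    letI := X.presheaf.algebra_section_stalk (U := V) ⟨hV.fromSpec q, hp⟩
    haveI := hV.isLocalization_stalk ⟨hV.fromSpec q, hp⟩
    obtain ⟨w, hw⟩ := h _ hp
    obtain ⟨⟨c, d⟩, hcd⟩ := IsLocalization.surj
      (hV.primeIdealOf ⟨hV.fromSpec q, hp⟩).asIdeal.primeCompl w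
    have hcd' : w * X.presheaf.germ V _ hp d.1 = X.presheaf.germ V _ hp c := hcd
    have hd : d.1 ∉ m := fun hdm ↦ d.2
      ((SetLike.ext_iff.mp (congrArg PrimeSpectrum.asIdeal hq) d.1).mpr hdm)
    refine hd (hIm ⟨c, ?_⟩)
    have h2 := congrArg (algebraMap (X.presheaf.stalk (hV.fromSpec q)) X.functionField) hcd'
    rw [map_mul, hw] at h2
    have key : ∀ a, algebraMap (X.presheaf.stalk (hV.fromSpec q)) X.functionField
        (X.presheaf.germ V _ hp a) = X.presheaf.germ V (genericPoint X) hξ a := fun a ↦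
      ConcreteCategory.congr_hom (X.presheaf.germ_stalkSpecializes hp (genericPoint_specializes _)) a
    rw [key, key] at h2
    exact h2.symm

lemma ext_generic (g : X' ⟶ X) [IsSeparated g] {W : X.Opens} (hξ : genericPoint X ∈ W)
    {a b : (W : Scheme.{u}) ⟶ X'} (ha : a ≫ g = W.ι) (hb : b ≫ g = W.ι)
    (h : W.fromSpecStalkOfMem (genericPoint X) hξ ≫ a =
      W.fromSpecStalkOfMem (genericPoint X) hξ ≫ b) : a = b := by
  haveI : IsDominant (W.fromSpecStalkOfMem (genericPoint X) hξ) := by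
    refine ⟨fun q ↦ ?_⟩
    let p : Spec (X.presheaf.stalk (genericPoint X)) := IsLocalRing.closedPoint _
    have hp : W.ι (W.fromSpecStalkOfMem (genericPoint X) hξ p) = genericPoint X := by
      rw [← Scheme.Hom.comp_apply, Scheme.Opens.fromSpecStalkOfMem_ι]
      exact Scheme.fromSpecStalk_closedPoint
    have hs : W.fromSpecStalkOfMem (genericPoint X) hξ p ⤳ q := by
      rw [← W.ι.isOpenEmbedding.isInducing.specializes_iff, hp]
      exact genericPoint_specializes _
    exact hs.mem_closed isClosed_closure (subset_closure ⟨p, rfl⟩)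
  exact ext_of_isDominant_of_isSeparated g (ha.trans hb.symm)
    (W.fromSpecStalkOfMem (genericPoint X) hξ) h

variable (g : X' ⟶ X) [IsIntegralHom g]

/-- The extension of a rational section of an integral morphism over a normal scheme. -/
theorem exists_extend (hX : Pi1.IsNormalScheme X) (U : X.Opens) (hU : Dense (U : Set X))
    (s : (U : Scheme.{u}) ⟶ X') (hs : s ≫ g = U.ι) :
    ∃ s' : X ⟶ X', s' ≫ g = 𝟙 X ∧ U.ι ≫ s' = s := by
  have hξU : genericPoint X ∈ U := by
    obtain ⟨p, hp⟩ := hU.nonempty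
    exact genericPoint_mem hp
  let σ : Spec (X.presheaf.stalk (genericPoint X)) ⟶ X' :=
    U.fromSpecStalkOfMem (genericPoint X) hξU ≫ s
  have hσ : σ ≫ g = X.fromSpecStalk (genericPoint X) := by
    rw [Category.assoc, hs, Scheme.Opens.fromSpecStalkOfMem_ι]
  have hpt : ∀ p, g (σ p) = genericPoint X := fun p ↦ by
    rw [← Scheme.Hom.comp_apply, hσ]
    have := Subsingleton.elim (α := PrimeSpectrum X.functionField) p (IsLocalRing.closedPoint _)
    rw [this]
    exact Scheme.fromSpecStalk_closedPoint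
  have hloc : ∀ (V : {V : X.Opens // IsAffineOpen V ∧ genericPoint X ∈ V}),
      ∃ h : (V.1 : Scheme.{u}) ⟶ X', h ≫ g = V.1.ι ∧
        V.1.fromSpecStalkOfMem (genericPoint X) V.2.2 ≫ h = σ := by
    rintro ⟨V, hV, hξ⟩
    have hσV : ∀ p, σ p ∈ g ⁻¹ᵁ V := fun p ↦ show g (σ p) ∈ V from (hpt p).symm ▸ hξ
    let ρ := DVRCrit.ev σ (g ⁻¹ᵁ V) hσV
    have hev : DVRCrit.ev (σ ≫ g) V (fun p ↦ hσV p) = X.presheaf.germ V (genericPoint X) hξ := by
      refine (DVRCrit.ev_congr hσ V _ fun p ↦ ?_).trans (DVRCrit.ev_fromSpecStalk hV _ hξ _)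
      rw [← hσ, Scheme.Hom.comp_apply, hpt p]; exact hξ
    have hρ : g.appLE V (g ⁻¹ᵁ V) le_rfl ≫ ρ = X.presheaf.germ V (genericPoint X) hξ := by
      rw [← hev]; exact (DVRCrit.ev_comp_right g σ le_rfl hσV _).symm
    have hint : ∀ b, ∃ a, X.presheaf.germ V (genericPoint X) hξ a = ρ b := by
      intro b
      refine exists_germ_eq hV hξ _ fun p hp ↦ ?_
      obtain ⟨P, hP, hPb⟩ := g.isIntegral_app V hV b
      haveI := (hX p).1
      haveI := (hX p).2
      refine IsIntegrallyClosed.isIntegral_iff.mp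
        ⟨P.map (X.presheaf.germ V p hp).hom, hP.map _, ?_⟩
      have hcomp : (algebraMap (X.presheaf.stalk p) X.functionField).comp
          (X.presheaf.germ V p hp).hom = ρ.hom.comp (g.app V).hom := by
        have h1 := hρ
        rw [← Scheme.Hom.app_eq_appLE] at h1
        exact (congrArg CommRingCat.Hom.hom
          ((X.presheaf.germ_stalkSpecializes hp (genericPoint_specializes p)).trans h1.symm))
      rw [Polynomial.eval₂_map, hcomp, ← Polynomial.hom_eval₂, hPb, map_zero]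
    choose φ hφ using hint
    have hinj : Function.Injective (X.presheaf.germ V (genericPoint X) hξ) :=
      germ_injective_of_isIntegral X (genericPoint X) hξ
    let Φ : Γ(X', g ⁻¹ᵁ V) →+* Γ(X, V) :=
      { toFun := φ
        map_one' := hinj (by rw [hφ, map_one, map_one])
        map_mul' := fun a b ↦ hinj (by rw [hφ, map_mul, map_mul, hφ, hφ])
        map_zero' := hinj (by rw [hφ, map_zero, map_zero])
        map_add' := fun a b ↦ hinj (by rw [hφ, map_add, map_add, hφ, hφ]) }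
    have hΦ : CommRingCat.ofHom Φ ≫ X.presheaf.germ V (genericPoint X) hξ = ρ := by
      ext b; exact hφ b
    refine ⟨V.toSpecΓ ≫ Spec.map (CommRingCat.ofHom Φ) ≫ (hV.preimage g).fromSpec, ?_, ?_⟩
    · have h1 : g.appLE V (g ⁻¹ᵁ V) le_rfl ≫ CommRingCat.ofHom Φ = 𝟙 _ := by
        ext a
        refine hinj ((hφ _).trans ?_)
        exact ConcreteCategory.congr_hom hρ a
      simp only [Category.assoc]
      rw [← hV.SpecMap_appLE_fromSpec g (hV.preimage g) le_rfl, ← Spec.map_comp_assoc, h1,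
        Spec.map_id, Category.id_comp, IsAffineOpen.toSpecΓ_fromSpec]
    · have h2 : V.fromSpecStalkOfMem (genericPoint X) hξ ≫ V.toSpecΓ =
          Spec.map (X.presheaf.germ V (genericPoint X) hξ) := by
        refine (cancel_mono hV.fromSpec).mp ?_
        rw [Category.assoc, IsAffineOpen.toSpecΓ_fromSpec, Scheme.Opens.fromSpecStalkOfMem_ι,
          ← hV.fromSpecStalk_eq_fromSpecStalk hξ]
        rfl
      refine (Category.assoc _ _ _).symm.trans ((congrArg (· ≫ (Spec.map (CommRingCat.ofHom Φ) ≫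
        (hV.preimage g).fromSpec)) h2).trans ?_)
      refine (Category.assoc _ _ _).symm.trans ?_
      rw [← Spec.map_comp, hΦ]
      exact DVRCrit.eq_map_ev_fromSpec σ (hV.preimage g) hσV
  choose h hhg hhσ using hloc
  have hcov : iSup (fun V : {V : X.Opens // IsAffineOpen V ∧ genericPoint X ∈ V} ↦ V.1) = ⊤ := by
    rw [eq_top_iff]
    intro p _
    obtain ⟨V, hV, hpV, -⟩ := exists_isAffineOpen_mem_and_subset (X := X) (x := p) (U := ⊤) trivial
    exact Opens.mem_iSup.mpr ⟨⟨V, hV, genericPoint_mem hpV⟩, hpV⟩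
  have hgen : ∀ {W V : X.Opens} (hle : W ≤ V) (hW : genericPoint X ∈ W) (hV : genericPoint X ∈ V),
      W.fromSpecStalkOfMem (genericPoint X) hW ≫ X.homOfLE hle =
        V.fromSpecStalkOfMem (genericPoint X) hV := fun hle hW hV ↦ by
    rw [← cancel_mono (Scheme.Opens.ι _), Category.assoc, Scheme.homOfLE_ι,
      Scheme.Opens.fromSpecStalkOfMem_ι, Scheme.Opens.fromSpecStalkOfMem_ι]
  let 𝒰 : X.OpenCover := X.openCoverOfIsOpenCover _ hcov
  let s' : X ⟶ X' := 𝒰.glueMorphisms h (by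
    intro V V'
    refine Scheme.hom_ext_of_forall _ _ fun p ↦ ⟨⊤, trivial, ?_⟩
    congr 1
    let l : pullback (𝒰.f V) (𝒰.f V') ⟶ ((V.1 ⊓ V'.1 : X.Opens) : Scheme.{u}) :=
      IsOpenImmersion.lift (V.1 ⊓ V'.1).ι (pullback.fst (𝒰.f V) (𝒰.f V') ≫ V.1.ι) (by
        rintro _ ⟨q, rfl⟩
        refine ⟨⟨_, (pullback.fst (𝒰.f V) (𝒰.f V') q).2, ?_⟩, rfl⟩
        have h0 : (pullback.fst (𝒰.f V) (𝒰.f V') ≫ V.1.ι) q =
            (pullback.snd (𝒰.f V) (𝒰.f V') ≫ V'.1.ι) q :=
          congrArg (fun a : pullback (𝒰.f V) (𝒰.f V') ⟶ X ↦ a q) pullback.condition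
        show (pullback.fst (𝒰.f V) (𝒰.f V') ≫ V.1.ι) q ∈ V'.1
        exact h0.symm ▸ (pullback.snd (𝒰.f V) (𝒰.f V') q).2)
    have hξ : genericPoint X ∈ V.1 ⊓ V'.1 := ⟨V.2.2, V'.2.2⟩
    have hl : l ≫ (V.1 ⊓ V'.1).ι = pullback.fst (𝒰.f V) (𝒰.f V') ≫ V.1.ι :=
      IsOpenImmersion.lift_fac _ _ _
    have h₁ : pullback.fst (𝒰.f V) (𝒰.f V') = l ≫ X.homOfLE inf_le_left := by
      refine (cancel_mono V.1.ι).mp (Eq.trans hl.symm (Eq.trans ?_ (Category.assoc _ _ _).symm))
      rw [Scheme.homOfLE_ι]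
    have h₂ : pullback.snd (𝒰.f V) (𝒰.f V') = l ≫ X.homOfLE inf_le_right := by
      refine (cancel_mono V'.1.ι).mp (Eq.trans ?_ (Category.assoc _ _ _).symm)
      rw [Scheme.homOfLE_ι, hl]
      exact (pullback.condition : pullback.fst (𝒰.f V) (𝒰.f V') ≫ 𝒰.f V = _).symm
    have key : X.homOfLE (inf_le_left : V.1 ⊓ V'.1 ≤ V.1) ≫ h V =
        X.homOfLE (inf_le_right : V.1 ⊓ V'.1 ≤ V'.1) ≫ h V' :=
      ext_generic g hξ ((Category.assoc _ _ _).trans ((congrArg _ (hhg _)).trans (Scheme.homOfLE_ι ..)))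
        ((Category.assoc _ _ _).trans ((congrArg _ (hhg _)).trans (Scheme.homOfLE_ι ..)))
        ((Category.assoc _ _ _).symm.trans ((congrArg (· ≫ h V) (hgen _ hξ V.2.2)).trans ((hhσ V).trans
          ((hhσ V').symm.trans ((congrArg (· ≫ h V') (hgen _ hξ V'.2.2)).symm.trans
            (Category.assoc _ _ _))))))
    exact (congrArg (· ≫ h V) h₁).trans ((Category.assoc _ _ _).trans ((congrArg (l ≫ ·) key).trans
      ((Category.assoc _ _ _).symm.trans (congrArg (· ≫ h V') h₂).symm))))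
  have hι : ∀ V : {V : X.Opens // IsAffineOpen V ∧ genericPoint X ∈ V}, V.1.ι ≫ s' = h V :=
    fun V ↦ 𝒰.ι_glueMorphisms _ _ V
  have hs'g : s' ≫ g = 𝟙 X := by
    refine 𝒰.hom_ext _ _ fun V ↦ ?_
    show V.1.ι ≫ s' ≫ g = V.1.ι ≫ 𝟙 X
    exact (Category.assoc _ _ _).symm.trans ((congrArg (· ≫ g) (hι V)).trans
      ((hhg V).trans (Category.comp_id _).symm))
  refine ⟨s', hs'g, ext_generic g hξU ?_ hs ?_⟩
  · rw [Category.assoc, hs'g, Category.comp_id]
  · obtain ⟨V, hV, hξV, -⟩ := exists_isAffineOpen_mem_and_subset (X := X) (x := genericPoint X)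
      (U := ⊤) trivial
    rw [← Category.assoc, Scheme.Opens.fromSpecStalkOfMem_ι,
      ← V.fromSpecStalkOfMem_ι (genericPoint X) hξV, Category.assoc, hι ⟨V, hV, hξV⟩,
      hhσ ⟨V, hV, hξV⟩]

/-- An integral morphism from an integral scheme to a normal one with a section is an isomorphism. -/
theorem isIso_of_section [IsIntegral X'] (s' : X ⟶ X') (hs' : s' ≫ g = 𝟙 X) : IsIso g := by
  haveI : IsClosedImmersion (s' ≫ g) := by rw [hs']; infer_instance
  haveI : IsClosedImmersion s' := IsClosedImmersion.of_comp s' g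
  obtain ⟨V, hV, hξV, -⟩ := exists_isAffineOpen_mem_and_subset (X := X) (x := genericPoint X)
      (U := ⊤) trivial
  let σ : Spec (X.presheaf.stalk (genericPoint X)) ⟶ X' := X.fromSpecStalk (genericPoint X) ≫ s'
  have hσ : σ ≫ g = X.fromSpecStalk (genericPoint X) := by
    rw [Category.assoc, hs', Category.comp_id]
  let p0 : Spec (X.presheaf.stalk (genericPoint X)) := IsLocalRing.closedPoint _
  have hp0 : ∀ p, p = p0 := fun p ↦ Subsingleton.elim (α := PrimeSpectrum X.functionField) p p0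
  have hσV : ∀ p, σ p ∈ g ⁻¹ᵁ V := fun p ↦ by
    show g (σ p) ∈ V
    rw [← Scheme.Hom.comp_apply, hσ, hp0 p, Scheme.fromSpecStalk_closedPoint]
    exact hξV
  set ρ := DVRCrit.ev σ (g ⁻¹ᵁ V) hσV with hρdef
  have hev : DVRCrit.ev (σ ≫ g) V (fun p ↦ hσV p) = X.presheaf.germ V (genericPoint X) hξV := by
    refine (DVRCrit.ev_congr hσ V _ fun p ↦ ?_).trans (DVRCrit.ev_fromSpecStalk hV _ hξV _)
    rw [hp0 p, Scheme.fromSpecStalk_closedPoint]; exact hξV
  have hρ : g.app V ≫ ρ = X.presheaf.germ V (genericPoint X) hξV := by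
    rw [← hev, Scheme.Hom.app_eq_appLE]
    exact (DVRCrit.ev_comp_right g σ le_rfl hσV _).symm
  haveI : Nonempty (g ⁻¹ᵁ V : X'.Opens) := ⟨⟨_, hσV p0⟩⟩
  haveI : Nonempty V := ⟨⟨_, hξV⟩⟩
  letI := (g.app V).hom.toAlgebra
  haveI : Algebra.IsIntegral Γ(X, V) Γ(X', g ⁻¹ᵁ V) := ⟨g.isIntegral_app V hV⟩
  have hker : RingHom.ker ρ.hom = ⊥ := by
    refine Ideal.eq_bot_of_comap_eq_bot (R := Γ(X, V)) ?_
    refine eq_bot_iff.mpr fun a ha ↦ ?_
    have h1 : ρ.hom ((g.app V).hom a) = 0 := ha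
    have h2 := ConcreteCategory.congr_hom hρ a
    exact germ_injective_of_isIntegral X (genericPoint X) hξV
      ((h2.symm.trans h1).trans (map_zero _).symm)
  have hdom : IsDominant s' := by
    refine ⟨fun q ↦ ?_⟩
    have hx' : σ p0 = genericPoint X' := by
      refine (Specializes.antisymm ?_ (genericPoint_specializes _)).eq
      have hgen : genericPoint X' ∈ g ⁻¹ᵁ V :=
        (genericPoint_specializes _).mem_open (g ⁻¹ᵁ V).2 (hσV p0)
      rw [← DVRCrit.eq_map_ev_fromSpec σ (hV.preimage g) hσV, ← hρdef, Scheme.Hom.comp_apply]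
      refine Specializes.trans (Specializes.map ?_ (hV.preimage g).fromSpec.continuous)
        (Inseparable.of_eq ((hV.preimage g).fromSpec_primeIdealOf ⟨_, hgen⟩)).specializes
      refine (PrimeSpectrum.le_iff_specializes _ _).mp ?_
      intro b hb
      have hb' : ρ.hom b ∈ p0.asIdeal := hb
      have h0 : p0.asIdeal = ⊥ :=
        (Ideal.eq_bot_or_top (K := X.functionField) p0.asIdeal).resolve_right p0.2.ne_top
      rw [h0, Ideal.mem_bot] at hb'
      have hb'' : b ∈ RingHom.ker ρ.hom := hb'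
      rw [hker, Ideal.mem_bot] at hb''
      rw [hb'']
      exact zero_mem _
    have hmem : σ p0 ∈ Set.range s' := ⟨X.fromSpecStalk (genericPoint X) p0, rfl⟩
    exact (genericPoint_specializes q).mem_closed isClosed_closure (hx' ▸ subset_closure hmem)
  haveI : Surjective s' := ⟨fun q ↦ by
    have h1 := hdom.1 q
    rwa [s'.isClosedEmbedding.isClosed_range.closure_eq] at h1⟩
  haveI : IsIso s' := isIso_of_isClosedImmersion_of_surjective s'
  have h : g = inv s' := by rw [← Category.id_comp g, ← IsIso.inv_hom_id s', Category.assoc, hs',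
    Category.comp_id]
  rw [h]
  infer_instance

end Groth.Agent.NormalSection
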